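import Groth.Agent.ProjCohLib.Hyperplane
import Groth.Agent.ProjMap.BaseChange
import Groth.Agent.ProjSmoothLib.Basic

/-!
# The hyperplane and its complement in projective space over a scheme
-/

set_option autoImplicit false
set_option linter.style.haveILetI false
set_option backward.isDefEq.respectTransparency false
set_option backward.isDefEq.respectTransparency.types false
set_option maxHeartbeats 1000000

universe u

open CategoryTheory CategoryTheory.Limits AlgebraicGeometry

noncomputable section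

namespace Groth.Agent.ProjDecompLib

theorem range_of_isPullback {A B C D : Scheme.{u}} {a : A ⟶ B} {b : A ⟶ C} {c : B ⟶ D} {d : C ⟶ D}
    (h : IsPullback a b c d) : Set.range a = c ⁻¹' Set.range d := by
  rw [← h.isoPullback_hom_fst, Scheme.Hom.comp_base, TopCat.coe_comp, Set.range_comp,
    Set.range_eq_univ.2 h.isoPullback.hom.surjective, Set.image_univ]
  exact Scheme.Pullback.range_fst c d

variable (X : Scheme.{u}) (r : ℕ)

/-- The last hyperplane over a scheme. -/
def hypOver : CohB1.ProjSpaceOver r X ⟶ CohB1.ProjSpaceOver (r + 1) X :=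
  ProjMap.liftOver (ProjMap.toInt X r ≫ ProjCohLib.hyperplane (ULift.{u} ℤ) r) (CohB1.ProjSpaceOver.toBase r X)

theorem hypOver_toBase : hypOver X r ≫ CohB1.ProjSpaceOver.toBase (r + 1) X = CohB1.ProjSpaceOver.toBase r X :=
  ProjMap.liftOver_toBase _ _

theorem isPullback_hypOver :
    IsPullback (hypOver X r) (ProjMap.toInt X r) (ProjMap.toInt X (r + 1)) (ProjCohLib.hyperplane (ULift.{u} ℤ) r) := by
  have hbot : IsPullback (ProjMap.toInt X (r + 1)) (CohB1.ProjSpaceOver.toBase (r + 1) X)
      (CohB1.ProjSpace.toSpec (r + 1) (ULift.{u} ℤ)) (specULiftZIsTerminal.from X) :=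
    IsPullback.of_hasPullback _ _
  refine (IsPullback.of_bot ?_ ?_ hbot).flip
  · rw [hypOver_toBase, specULiftZIsTerminal.hom_ext (ProjCohLib.hyperplane (ULift.{u} ℤ) r ≫ _) (CohB1.ProjSpace.toSpec r (ULift.{u} ℤ))]
    exact IsPullback.of_hasPullback _ _
  · exact (ProjMap.liftOver_toInt _ _).symm

instance isClosedImmersion_hypOver : IsClosedImmersion (hypOver X r) :=
  MorphismProperty.of_isPullback (P := @IsClosedImmersion) (isPullback_hypOver X r).flip inferInstance

/-- Affine space as an integral model. -/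
def affToInt : 𝔸(ULift.{u} (Fin (r + 1)); X) ⟶ Spec (CommRingCat.of (MvPolynomial (Fin (r + 1)) (ULift.{u} ℤ))) :=
  AffineSpace.map (ULift.{u} (Fin (r + 1))) (specULiftZIsTerminal.from X) ≫
    (AffineSpace.SpecIso (ULift.{u} (Fin (r + 1))) (CommRingCat.of (ULift.{u} ℤ))).hom ≫
      Spec.map (CommRingCat.ofHom (MvPolynomial.renameEquiv (ULift.{u} ℤ) Equiv.ulift.{u}).toRingEquiv.symm.toRingHom)

theorem isPullback_affToInt :
    IsPullback (affToInt X r) (𝔸(ULift.{u} (Fin (r + 1)); X) ↘ X)
      (Spec.map (CommRingCat.ofHom (MvPolynomial.C : (ULift.{u} ℤ) →+* MvPolynomial (Fin (r + 1)) (ULift.{u} ℤ))))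
      (specULiftZIsTerminal.from X) := by
  let e : (MvPolynomial (ULift.{u} (Fin (r + 1))) (ULift.{u} ℤ)) ≃+* MvPolynomial (Fin (r + 1)) (ULift.{u} ℤ) :=
    (MvPolynomial.renameEquiv (ULift.{u} ℤ) Equiv.ulift.{u}).toRingEquiv
  haveI : IsIso (CommRingCat.ofHom e.symm.toRingHom) := e.symm.toCommRingCatIso.isIso_hom
  let w := AffineSpace.SpecIso (ULift.{u} (Fin (r + 1))) (CommRingCat.of (ULift.{u} ℤ)) ≪≫
    asIso (Spec.map (CommRingCat.ofHom e.symm.toRingHom))
  exact (AffineSpace.isPullback_map (n := ULift.{u} (Fin (r + 1))) (specULiftZIsTerminal.from X)).of_iso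
    (Iso.refl _) w (Iso.refl _) (Iso.refl _) (by simp [affToInt, w, e]) (by simp)
    (specULiftZIsTerminal.hom_ext _ _) (by simp)

/-- The complement of the hyperplane. -/
def affOver : 𝔸(ULift.{u} (Fin (r + 1)); X) ⟶ CohB1.ProjSpaceOver (r + 1) X :=
  ProjMap.liftOver (affToInt X r ≫ ProjCohLib.affinePart (ULift.{u} ℤ) r) (𝔸(ULift.{u} (Fin (r + 1)); X) ↘ X)

theorem affOver_toBase :
    affOver X r ≫ CohB1.ProjSpaceOver.toBase (r + 1) X = 𝔸(ULift.{u} (Fin (r + 1)); X) ↘ X :=
  ProjMap.liftOver_toBase _ _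

theorem isPullback_affOver :
    IsPullback (affOver X r) (affToInt X r) (ProjMap.toInt X (r + 1)) (ProjCohLib.affinePart (ULift.{u} ℤ) r) := by
  have hbot : IsPullback (ProjMap.toInt X (r + 1)) (CohB1.ProjSpaceOver.toBase (r + 1) X)
      (CohB1.ProjSpace.toSpec (r + 1) (ULift.{u} ℤ)) (specULiftZIsTerminal.from X) :=
    IsPullback.of_hasPullback _ _
  refine (IsPullback.of_bot ?_ ?_ hbot).flip
  · rw [affOver_toBase, specULiftZIsTerminal.hom_ext (ProjCohLib.affinePart (ULift.{u} ℤ) r ≫ _)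
      (Spec.map (CommRingCat.ofHom (MvPolynomial.C : (ULift.{u} ℤ) →+* MvPolynomial (Fin (r + 1)) (ULift.{u} ℤ))))]
    exact isPullback_affToInt X r
  · exact (ProjMap.liftOver_toInt _ _).symm

instance isOpenImmersion_affOver : IsOpenImmersion (affOver X r) :=
  MorphismProperty.of_isPullback (P := @IsOpenImmersion) (isPullback_affOver X r).flip inferInstance

theorem range_affOver : Set.range (affOver X r) = (Set.range (hypOver X r))ᶜ := by
  rw [range_of_isPullback (isPullback_affOver X r), range_of_isPullback (isPullback_hypOver X r),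
    ProjCohLib.range_affinePart, Set.preimage_compl]

instance smoothOfRelativeDimension_toBase :
    SmoothOfRelativeDimension r (CohB1.ProjSpaceOver.toBase r X) := by
  haveI : IsDomain (ULift.{u} ℤ) := ULift.ringEquiv.toMulEquiv.isDomain _
  haveI : SmoothOfRelativeDimension r (CohB1.ProjSpace.toSpec r (ULift.{u} ℤ)) := inferInstance
  unfold CohB1.ProjSpaceOver.toBase
  haveI := smoothOfRelativeDimension_isStableUnderBaseChange (n := r)
  exact MorphismProperty.pullback_snd (P := @SmoothOfRelativeDimension r) _ _ inferInstance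

/-- `P⁰` over a scheme is the scheme. -/
theorem isIso_toBase_zero : IsIso (CohB1.ProjSpaceOver.toBase 0 X) := by
  haveI := ProjCohLib.isIso_chart_zero (ULift.{u} ℤ)
  let e := Spec.map (CommRingCat.ofHom (PicProjLib.awayToPoly 0 (ULift.{u} ℤ) 0)) ≫ ProjMap.chart (n := 0) (R := (ULift.{u} ℤ)) 0
  haveI : IsIso e := inferInstance
  haveI : IsIso (e ≫ CohB1.ProjSpace.toSpec 0 (ULift.{u} ℤ)) := by
    rw [specULiftZIsTerminal.hom_ext (e ≫ CohB1.ProjSpace.toSpec 0 (ULift.{u} ℤ))
      (Spec.map (MvPolynomial.isEmptyRingEquiv (ULift.{u} ℤ) (Fin 0)).toCommRingCatIso.inv)]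
    infer_instance
  haveI : IsIso (CohB1.ProjSpace.toSpec 0 (ULift.{u} ℤ)) := IsIso.of_isIso_comp_left e _
  unfold CohB1.ProjSpaceOver.toBase
  infer_instance

end Groth.Agent.ProjDecompLib
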