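import Groth.Agent.ProjDecompLib.Split
import Groth.Agent.ProjDecompLib.Chart
import Groth.Agent.ProjCohLib.Main
import Groth.Agent.RelPurLib.Purity

/-!
# The cohomology of projective space over a scheme over a separably closed field
-/

set_option autoImplicit false
set_option linter.style.haveILetI false
set_option backward.isDefEq.respectTransparency false
set_option backward.isDefEq.respectTransparency.types false
set_option maxHeartbeats 1000000

universe u v

open CategoryTheory CategoryTheory.Limits AlgebraicGeometry Opposite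

attribute [local instance] Groth.Agent.S0101.result

noncomputable section

namespace Groth.Agent.ProjDecompLib

section Algebra

variable (V : ℕ → Type v) [∀ d, AddCommGroup (V d)]

/-- Transport along an equality of degrees. -/
def degCast {a b : ℕ} (h : a = b) : V a ≃+ V b := by
  subst h; exact AddEquiv.refl _

theorem degCast_degCast {a b : ℕ} (h : a = b) (h' : b = a) (x : V a) : degCast V h' (degCast V h x) = x := by
  subst h; rfl

/-- Splitting off the summand in top degree. -/
def stepEquiv (r m : ℕ) :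
    (∀ i : {i : Fin (r + 1) // 2 * i.1 ≤ m}, V (m - 2 * i.1.1)) × V (m + 2) ≃+
      (∀ j : {j : Fin (r + 1 + 1) // 2 * j.1 ≤ m + 2}, V (m + 2 - 2 * j.1.1)) where
  toFun p j := Fin.cases (motive := fun j => 2 * j.1 ≤ m + 2 → V (m + 2 - 2 * j.1))
    (fun _ => degCast V (by simp) p.2)
    (fun i hi => degCast V (by simp only [Fin.val_succ]; omega)
      (p.1 ⟨i, by simp only [Fin.val_succ] at hi; omega⟩)) j.1 j.2
  invFun f := (fun i => degCast V (by simp only [Fin.val_succ]; omega)
      (f ⟨i.1.succ, by have := i.2; simp only [Fin.val_succ]; omega⟩), degCast V (by simp) (f ⟨0, by simp⟩))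
  left_inv p := by
    refine Prod.ext (funext fun i => ?_) ?_
    · simp only [Fin.cases_succ]
      exact degCast_degCast V _ _ _
    · simp only [Fin.cases_zero]
      exact degCast_degCast V _ _ _
  right_inv f := by
    funext ⟨j, hj⟩
    induction j using Fin.cases with
    | zero => simp only [Fin.cases_zero]; exact degCast_degCast V _ _ _
    | succ i => simp only [Fin.cases_succ]; exact degCast_degCast V _ _ _
  map_add' p q := by
    funext ⟨j, hj⟩
    induction j using Fin.cases with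
    | zero => simp; exact map_add _ _ _
    | succ i => simp; exact map_add _ _ _

/-- In degrees with one summand. -/
def lowEquiv (r q : ℕ) (h : ∀ j : {j : Fin (r + 1) // 2 * j.1 ≤ q}, j.1 = 0) :
    V q ≃+ (∀ j : {j : Fin (r + 1) // 2 * j.1 ≤ q}, V (q - 2 * j.1.1)) where
  toFun x j := degCast V (by rw [h j]; simp) x
  invFun f := degCast V (by simp) (f ⟨0, by simp⟩)
  left_inv x := degCast_degCast V _ _ _
  right_inv f := by
    funext ⟨j, hj⟩
    have : j = 0 := h ⟨j, hj⟩
    subst this
    exact degCast_degCast V _ _ _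
  map_add' x y := by funext j; simp [map_add]

end Algebra

variable (k : Type u) [Field k] [IsSepClosed k] {X : Scheme.{u}} (f : X ⟶ Spec (CommRingCat.of k))
  (n : ℕ) (hn : (n : k) ≠ 0)

include f hn in
theorem isUnit_natCast {W : Scheme.{u}} (g : W ⟶ X) : IsUnit (n : Γ(W, ⊤)) := by
  simpa using (isUnit_iff_ne_zero.2 hn).map
    ((Scheme.ΓSpecIso (CommRingCat.of k)).inv ≫ (g ≫ f).appTop).hom

/-- Pullback to projective space is injective on cohomology. -/
theorem injective_Hpull_toBase (G : EtCoh.Ab X) (q : ℕ) :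
    ∀ r : ℕ, Function.Injective (EtCore.Hpull (CohB1.ProjSpaceOver.toBase r X) G q)
  | 0 => by
    haveI := isIso_toBase_zero X
    exact (AcycCompLib.bijective_Hpull_of_isIso (CohB1.ProjSpaceOver.toBase 0 X) G q).1
  | r + 1 => ((AcycCompLib.injective_Hpull_comp_iff (CohB1.ProjSpaceOver.toBase (r + 1) X) (hypOver X r)
      (CohB1.ProjSpaceOver.toBase r X) (hypOver_toBase X r) G q).1 (injective_Hpull_toBase G q r)).of_comp

variable (r : ℕ)

include f hn in
theorem locCoh_data :
    (∀ p : ℕ, p ≠ 2 → IsZero ((EtDual.locCoh (affOver X r) p).obj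
        (EtCoh.const (CohB1.ProjSpaceOver (r + 1) X) (ZMod n)))) ∧
      Nonempty ((EtDual.locCoh (affOver X r) 2).obj (EtCoh.const (CohB1.ProjSpaceOver (r + 1) X) (ZMod n)) ≅
        (EtCoh.push (hypOver X r)).obj (EtCoh.const (CohB1.ProjSpaceOver r X) (ZMod n))) := by
  let π := CohB1.ProjSpaceOver.toBase (r + 1) X
  haveI : SmoothOfRelativeDimension (r + 1 - 1) (CohB1.ProjSpaceOver.toBase r X) := by
    rw [Nat.add_sub_cancel]; infer_instance
  let j := affOver X r
  refine ⟨fun p hp => RelPurLib.isZero_locCoh_const π (CohB1.ProjSpaceOver.toBase r X) (hypOver X r) r 1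
    (hypOver_toBase X r) j (range_affOver X r) n (isUnit_natCast k f n hn π) p (by omega), ?_⟩
  obtain ⟨a⟩ := ProjCohLib.nonempty_mu_iso_const k n hn (π ≫ f)
  obtain ⟨e⟩ := LocCohLib.nonempty_iso_succ j (EtCoh.mu (CohB1.ProjSpaceOver (r + 1) X) n) (InjectiveResolution.of _) 0
  obtain ⟨e'⟩ := S4259.result n (isUnit_natCast k f n hn (𝟙 X)) (r + 1) (by omega) π (CohB1.ProjSpaceOver.toBase r X)
    (hypOver X r) (hypOver_toBase X r) j (range_affOver X r)
  exact ⟨(EtDual.locCoh j 2).mapIso a.symm ≪≫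
    (InjectiveResolution.of (EtCoh.mu (CohB1.ProjSpaceOver (r + 1) X) n)).isoRightDerivedObj (EtDual.secSupp j) 2 ≪≫
    e.symm ≪≫ (EtCoh.Rpush j 1).mapIso ((EtPtsLib.pullIsoRestr j).app _ ≪≫ TateShLib.restrMu j n) ≪≫ e'⟩

include f hn in
theorem nonempty_H_step (q : ℕ) :
    Nonempty (((EtDual.HY (affOver X r) q).obj (EtCoh.const (CohB1.ProjSpaceOver (r + 1) X) (ZMod n)) : Type (u + 1)) ×
        EtCoh.H X (EtCoh.const X (ZMod n)) q ≃+
      EtCoh.H (CohB1.ProjSpaceOver (r + 1) X) (EtCoh.const (CohB1.ProjSpaceOver (r + 1) X) (ZMod n)) q) := by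
  let π := CohB1.ProjSpaceOver.toBase (r + 1) X
  let G := EtCoh.const X (ZMod n)
  let p := 𝔸(ULift.{u} (Fin (r + 1)); X) ↘ X
  have hY : SmoothBCLib.InvOn n X := isUnit_natCast k f n hn (𝟙 X)
  haveI : GeometricallyConnected p := LineAcycLib.geometricallyConnected_affineSpace _ X
  haveI : Flat p := LineAcycLib.flat_affineSpace _ X
  have h : ∀ g : 𝔸(ULift.{u} (Fin (r + 1)); X) ⟶ X, g = p →
      IsIso ((EtCoh.pullPushAdj g).unit.app G) ∧
        ∀ m : ℕ, IsZero ((EtCoh.Rpush g (m + 1)).obj ((EtCoh.pull g).obj G)) := by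
    rintro g rfl
    exact ⟨GeomConnPull.isIso_unit_of_flat p G,
      LineAcycLib.isZero_Rpush_affineSpace (r + 1) hY G (PBCLib.killedBy_const _ n)⟩
  obtain ⟨hu, hR⟩ := h _ (affOver_toBase X r)
  obtain ⟨d⟩ := nonempty_H_decomp π (affOver X r) G hu hR q
  let c := EtCore.pullConst π (ZMod n)
  exact ⟨((((EtDual.HY (affOver X r) q).mapIso c.symm).addCommGroupIsoToAddEquiv.prodCongr (AddEquiv.refl _)).trans d).trans
    (((EtCoh.HF _ q).mapIso c).addCommGroupIsoToAddEquiv)⟩

include f hn in
/-- The decomposition of the cohomology of projective space. -/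
theorem projSpaceOver_cohomology : ∀ (r q : ℕ),
    Nonempty (EtCoh.H (CohB1.ProjSpaceOver r X) (EtCoh.const (CohB1.ProjSpaceOver r X) (ZMod n)) q ≃+
      (∀ j : {j : Fin (r + 1) // 2 * j.1 ≤ q}, EtCoh.H X (EtCoh.const X (ZMod n)) (q - 2 * j.1.1)))
  | 0, q => by
    haveI := isIso_toBase_zero X
    obtain ⟨a⟩ := ProjCohLib.nonempty_H_const_of_isIso (CohB1.ProjSpaceOver.toBase 0 X) (ZMod n) q
    exact ⟨a.symm.trans (lowEquiv (fun d => EtCoh.H X (EtCoh.const X (ZMod n)) d) 0 q fun j => Fin.fin_one_eq_zero j.1)⟩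
  | r + 1, q => by
    obtain ⟨hz, ⟨e2⟩⟩ := locCoh_data k f n hn r
    obtain ⟨d⟩ := nonempty_H_step k f n hn r q
    let j := affOver X r
    let F := EtCoh.const (CohB1.ProjSpaceOver (r + 1) X) (ZMod n)
    let V : ℕ → Type (u + 1) := fun d => EtCoh.H X (EtCoh.const X (ZMod n)) d
    have low : ∀ q' : ℕ, q' ≤ 1 → (((EtDual.HY j q').obj F : Type (u + 1)) × V q' ≃+
        EtCoh.H (CohB1.ProjSpaceOver (r + 1) X) F q') →
        Nonempty (EtCoh.H (CohB1.ProjSpaceOver (r + 1) X) F q' ≃+
          (∀ j : {j : Fin (r + 1 + 1) // 2 * j.1 ≤ q'}, V (q' - 2 * j.1.1))) := fun q' hq' d' => by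
      obtain ⟨e⟩ := SuppCoh.nonempty_HY_iso_sections j F q' fun p hp => hz p (by omega)
      haveI : Subsingleton ((EtDual.HY j q').obj F : Type (u + 1)) :=
        AddCommGrpCat.subsingleton_of_isZero (((SuppCoh.gs _).map_isZero (hz q' (by omega))).of_iso e)
      let p₂ : ((EtDual.HY j q').obj F : Type (u + 1)) × V q' ≃+ V q' :=
        AddEquiv.ofBijective (AddMonoidHom.snd _ _) ⟨fun a b h => Prod.ext (Subsingleton.elim _ _) h, fun v => ⟨(0, v), rfl⟩⟩
      exact ⟨(d'.symm.trans p₂).trans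
        (lowEquiv V (r + 1) q' fun i => Fin.ext (by have := i.2; simp only [Fin.val_zero]; omega))⟩
    match q, d with
    | 0, d => exact low 0 (by omega) d
    | 1, d => exact low 1 le_rfl d
    | m + 2, d =>
      obtain ⟨a⟩ := projSpaceOver_cohomology r m
      have hY : Nonempty (((EtDual.HY j (m + 2)).obj F : Type (u + 1)) ≃+
          EtCoh.H (CohB1.ProjSpaceOver r X) (EtCoh.const (CohB1.ProjSpaceOver r X) (ZMod n)) m) := by
        rcases m with _ | p
        · obtain ⟨b⟩ := SuppCoh.nonempty_HY_iso_sections j F 2 fun p hp => hz p (by omega)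
          exact ⟨(b ≪≫ (SuppCoh.gs _).mapIso e2 ≪≫
            (EtCore.pushGsecIso (hypOver X r)).app _).addCommGroupIsoToAddEquiv.trans
            (Sheaf.H.equiv₀ _ (EtCore.topIsTerminal _)).symm⟩
        · obtain ⟨b⟩ := ProjCohLib.nonempty_HY_iso_shift j F 2 hz p
          obtain ⟨c⟩ := ProjCohLib.nonempty_H_push (hypOver X r) (EtCoh.const (CohB1.ProjSpaceOver r X) (ZMod n)) (p + 1)
          have e : 2 + (p + 1) = p + 1 + 2 := by omega
          rw [e] at b
          exact ⟨b.addCommGroupIsoToAddEquiv.trans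
            (((EtCoh.HF _ (p + 1)).mapIso e2).addCommGroupIsoToAddEquiv.trans c)⟩
      obtain ⟨b⟩ := hY
      exact ⟨d.symm.trans (((b.trans a).prodCongr (AddEquiv.refl _)).trans (stepEquiv V r m))⟩

end Groth.Agent.ProjDecompLib
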