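import Groth.Agent.ProjCohLib.Gysin
import Groth.Agent.SpSeqLib.AcyclicResolution
import Groth.Agent.SpSeqLib.DerivedComp

/-!
# Splitting of the sequence of cohomology with supports

If `U ⊆ P` is open and `U → X` is acyclic for a sheaf `G` on `X`, the cohomology of the pullback of `G`
to `P` is the sum of that of `G` and the cohomology with supports off `U`.
-/

set_option autoImplicit false
set_option linter.style.haveILetI false
set_option linter.unusedSectionVars false
set_option backward.isDefEq.respectTransparency false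
set_option backward.isDefEq.respectTransparency.types false
set_option maxHeartbeats 1000000

universe v v' u u'

open CategoryTheory CategoryTheory.Limits AlgebraicGeometry Opposite

noncomputable section

namespace Groth.Agent.ProjDecompLib

open SpSeqLib

/-- A map of injective resolutions of one object is a homology isomorphism after any functor. -/
theorem isIso_homologyMap_of_resolutions {A : Type u} [Category.{v} A] [Abelian A] {B : Type u'}
    [Category.{v'} B] [Abelian B] {G : A} (R₁ R₂ : ExactResolution G) [∀ i, Injective (R₁.cocomplex.X i)]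
    [∀ i, Injective (R₂.cocomplex.X i)] (a : R₁.cocomplex ⟶ R₂.cocomplex) (ha : R₁.η ≫ a.f 0 = R₂.η)
    (Ψ : A ⥤ B) [Ψ.Additive] (n : ℕ) :
    IsIso (HomologicalComplex.homologyMap ((Ψ.mapHomologicalComplex (ComplexShape.up ℕ)).map a) n) := by
  obtain ⟨b, hb⟩ := R₂.exists_desc R₁.cocomplex R₁.η R₁.w
  let M := Ψ.mapHomologicalComplex (ComplexShape.up ℕ)
  have h1 : Homotopy (a ≫ b) (𝟙 R₁.cocomplex) := R₁.homotopy _ _ _ (by
    rw [HomologicalComplex.comp_f, ← Category.assoc, ha, hb, HomologicalComplex.id_f, Category.comp_id])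
  have h2 : Homotopy (b ≫ a) (𝟙 R₂.cocomplex) := R₂.homotopy _ _ _ (by
    rw [HomologicalComplex.comp_f, ← Category.assoc, hb, ha, HomologicalComplex.id_f, Category.comp_id])
  refine ⟨⟨HomologicalComplex.homologyMap (M.map b) n, ?_, ?_⟩⟩
  · rw [← HomologicalComplex.homologyMap_comp, ← Functor.map_comp, (Ψ.mapHomotopy h1).homologyMap_eq n,
      CategoryTheory.Functor.map_id, HomologicalComplex.homologyMap_id]
  · rw [← HomologicalComplex.homologyMap_comp, ← Functor.map_comp, (Ψ.mapHomotopy h2).homologyMap_eq n,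
      CategoryTheory.Functor.map_id, HomologicalComplex.homologyMap_id]

/-- A short exact sequence of complexes whose quotient is covered up to homology splits in homology. -/
theorem nonempty_homology_prod {S : ShortComplex (CochainComplex AddCommGrpCat.{v} ℕ)} (hS : S.ShortExact)
    {C : CochainComplex AddCommGrpCat.{v} ℕ} (φ : C ⟶ S.X₂)
    (h : ∀ n, IsIso (HomologicalComplex.homologyMap (φ ≫ S.g) n)) (n : ℕ) :
    Nonempty ((↑(S.X₁.homology n) : Type v) × (↑(C.homology n) : Type v) ≃+ (↑(S.X₂.homology n) : Type v)) := by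
  have hb : ∀ m, Function.Bijective
      (HomologicalComplex.homologyMap φ m ≫ HomologicalComplex.homologyMap S.g m) := fun m => by
    haveI := h m
    rw [← HomologicalComplex.homologyMap_comp]
    exact ConcreteCategory.bijective_of_isIso _
  have hepi : ∀ m, Epi (HomologicalComplex.homologyMap S.g m) := fun m =>
    (AddCommGrpCat.epi_iff_surjective _).2 fun z => by
      obtain ⟨c, hc⟩ := (hb m).2 z
      exact ⟨HomologicalComplex.homologyMap φ m c, hc⟩
  have hmono : Function.Injective (HomologicalComplex.homologyMap S.f n) := by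
    refine (AddCommGrpCat.mono_iff_injective _).1 ?_
    cases n with
    | zero =>
      haveI := hS.mono_f
      haveI : IsIso (S.X₁.homologyπ 0) := S.X₁.isIso_homologyπ 0 0 (CochainComplex.prev_nat_zero) (S.X₁.shape _ _ (by simp))
      haveI : IsIso (S.X₂.homologyπ 0) := S.X₂.isIso_homologyπ 0 0 (CochainComplex.prev_nat_zero) (S.X₂.shape _ _ (by simp))
      haveI : Mono (HomologicalComplex.cyclesMap S.f 0) := by
        have e := HomologicalComplex.cyclesMap_i S.f 0
        haveI : Mono (HomologicalComplex.cyclesMap S.f 0 ≫ S.X₂.iCycles 0) := by rw [e]; infer_instance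
        exact mono_of_mono _ (S.X₂.iCycles 0)
      have e2 := HomologicalComplex.homologyπ_naturality S.f 0
      have e3 : HomologicalComplex.homologyMap S.f 0 =
          inv (S.X₁.homologyπ 0) ≫ HomologicalComplex.cyclesMap S.f 0 ≫ S.X₂.homologyπ 0 := by
        rw [← e2, IsIso.inv_hom_id_assoc]
      rw [e3]
      infer_instance
    | succ m =>
      haveI := hepi m
      refine (hS.homology_exact₁ m (m + 1) rfl).mono_g ?_
      exact (cancel_epi (HomologicalComplex.homologyMap S.g m)).1
        ((hS.comp_δ m (m + 1) rfl).trans comp_zero.symm)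
  have hfg : ∀ x, HomologicalComplex.homologyMap S.g n (HomologicalComplex.homologyMap S.f n x) = 0 :=
    fun x => by
      rw [← ConcreteCategory.comp_apply, ← HomologicalComplex.homologyMap_comp, S.zero, HomologicalComplex.homologyMap_zero]
      rfl
  let e : (↑(S.X₁.homology n) : Type v) × (↑(C.homology n) : Type v) →+ (↑(S.X₂.homology n) : Type v) :=
    AddMonoidHom.coprod (HomologicalComplex.homologyMap S.f n).hom (HomologicalComplex.homologyMap φ n).hom
  refine ⟨AddEquiv.ofBijective e ⟨(injective_iff_map_eq_zero _).2 fun ⟨x, c⟩ hxc => ?_, fun y => ?_⟩⟩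
  · have h0 : HomologicalComplex.homologyMap S.g n (HomologicalComplex.homologyMap φ n c) = 0 := by
      have := congrArg (HomologicalComplex.homologyMap S.g n) hxc
      rw [map_zero, AddMonoidHom.coprod_apply, map_add, hfg, zero_add] at this
      exact this
    have hc : c = 0 := (hb n).1 (h0.trans (map_zero _).symm)
    subst hc
    have hx : HomologicalComplex.homologyMap S.f n x = 0 := by
      rw [AddMonoidHom.coprod_apply, map_zero, add_zero] at hxc
      exact hxc
    rw [hmono (hx.trans (map_zero _).symm)]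
    rfl
  · obtain ⟨c, hc⟩ := (hb n).2 (HomologicalComplex.homologyMap S.g n y)
    obtain ⟨x, hx⟩ := (ShortComplex.ab_exact_iff _).1 (hS.homology_exact₂ n)
      (y - HomologicalComplex.homologyMap φ n c) (by
        show HomologicalComplex.homologyMap S.g n _ = 0
        rw [map_sub, sub_eq_zero]
        exact hc.symm)
    refine ⟨(x, c), ?_⟩
    show HomologicalComplex.homologyMap S.f n x + HomologicalComplex.homologyMap φ n c = y
    rw [show HomologicalComplex.homologyMap S.f n x = _ from hx, sub_add_cancel]

open SuppCoh (gs)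

/-- The cohomology of a pullback splits off the cohomology with supports. -/
theorem nonempty_H_decomp {X P U : Scheme.{u}} (π : P ⟶ X) (j : U ⟶ P) [IsOpenImmersion j] (G : EtCoh.Ab X)
    (hu : IsIso ((EtCoh.pullPushAdj (j ≫ π)).unit.app G))
    (hR : ∀ q : ℕ, IsZero ((EtCoh.Rpush (j ≫ π) (q + 1)).obj ((EtCoh.pull (j ≫ π)).obj G))) (n : ℕ) :
    Nonempty (((EtDual.HY j n).obj ((EtCoh.pull π).obj G) : Type (u + 1)) × EtCoh.H X G n ≃+
      EtCoh.H P ((EtCoh.pull π).obj G) n) := by
  let F := (EtCoh.pull π).obj G
  let R := InjectiveResolution.of F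
  let J := InjectiveResolution.of G
  haveI : (EtCoh.pull j).Additive := (EtCoh.pullPushAdj j).left_adjoint_additive
  haveI : PreservesFiniteLimits (EtCoh.pull j) := S0101.result j
  haveI : PreservesFiniteColimits (EtCoh.pull j) := by
    haveI : PreservesColimitsOfSize.{0, 0} (EtCoh.pull j) := (EtCoh.pullPushAdj j).leftAdjoint_preservesColimits
    exact PreservesColimitsOfSize.preservesFiniteColimits _
  haveI : PreservesFiniteLimits (EtCoh.pull π) := S0101.result π
  haveI : PreservesFiniteLimits (EtCoh.push π) :=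
    (EtCoh.pullPushAdj π).rightAdjoint_preservesLimits.{0, 0}.preservesFiniteLimits
  haveI : PreservesFiniteLimits (EtCoh.push j) :=
    (EtCoh.pullPushAdj j).rightAdjoint_preservesLimits.{0, 0}.preservesFiniteLimits
  let E : EtCoh.Ab U ⥤ EtCoh.Ab X := EtCoh.push j ⋙ EtCoh.push π
  let e : E ≅ EtCoh.push (j ≫ π) := EtCoh.pushComp π j
  -- the unit of the composite
  let θ : G ⟶ E.obj ((EtCoh.pull j).obj F) := (EtCoh.pullPushAdj π).unit.app G ≫
    (EtCoh.push π).map ((EtCoh.pullPushAdj j).unit.app F)
  haveI : IsIso θ := by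
    let adjL := ((EtCoh.pullPushAdj π).comp (EtCoh.pullPushAdj j)).ofNatIsoRight e
    let σ := ((EtCoh.pullPushAdj (j ≫ π)).leftAdjointUniq adjL).app G
    have h1 : (EtCoh.pullPushAdj (j ≫ π)).unit.app G ≫ (EtCoh.push (j ≫ π)).map σ.hom =
        θ ≫ e.hom.app ((EtCoh.pull j).obj F) := by
      refine (Adjunction.unit_leftAdjointUniq_hom_app (EtCoh.pullPushAdj (j ≫ π)) adjL G).trans ?_
      simp only [adjL, θ, F, Adjunction.ofNatIsoRight, Adjunction.comp]
      simp
    haveI := hu
    rw [← isIso_comp_right_iff θ (e.hom.app ((EtCoh.pull j).obj F)), ← h1]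
    infer_instance
  -- the resolution of `G` through `U`
  let R' : InjectiveResolution ((EtCoh.pull j).obj F) :=
    { cocomplex := ((EtCoh.pull j).mapHomologicalComplex (ComplexShape.up ℕ)).obj R.cocomplex
      injective := fun i => S17614.injective_pull j (R.cocomplex.X i)
      ι := (HomologicalComplex.singleMapHomologicalComplex (EtCoh.pull j) (ComplexShape.up ℕ) 0).inv.app F ≫
        ((EtCoh.pull j).mapHomologicalComplex (ComplexShape.up ℕ)).map R.ι
      quasiIso := inferInstance }
  let R₀ := (ExactResolution.ofInjective R).map (EtCoh.pull j)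
  let K := (E.mapHomologicalComplex (ComplexShape.up ℕ)).obj R₀.cocomplex
  have hK : ∀ q : ℕ, IsZero (K.homology (q + 1)) := fun q =>
    (((hR q).of_iso ((EtCoh.Rpush (j ≫ π) (q + 1)).mapIso ((EtCore.pullComp j π).app G).symm)).of_iso
      ((rightDerivedCongr e (q + 1)).app ((EtCoh.pull j).obj F))).of_iso
      (R'.isoRightDerivedObj E (q + 1)).symm
  have hzero : (E.map R₀.η) ≫ K.d 0 1 = 0 := (E.map_comp _ _).symm.trans ((congrArg E.map R₀.w).trans (E.map_zero _ _))
  haveI := R₀.mono
  have hmono : Mono (E.map R₀.η) := inferInstance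
  let R₂ : ExactResolution G :=
    { cocomplex := K
      η := θ ≫ E.map R₀.η
      w := by rw [Category.assoc, hzero, comp_zero]
      mono := mono_comp _ _
      exact₀ := by
        have h2 : (ShortComplex.mk (E.map R₀.η) (K.d 0 1) hzero).Exact :=
          R₀.exact₀.map_of_mono_of_preservesKernel E R₀.mono inferInstance
        refine ShortComplex.exact_of_iso ?_ h2
        exact ShortComplex.isoMk (asIso θ).symm (Iso.refl _) (Iso.refl _) (by simp) (by simp)
      exact_succ := fun q => by
        have h2 := (HomologicalComplex.exactAt_iff_isZero_homology _ _).2 (hK q)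
        rwa [HomologicalComplex.exactAt_iff' _ q (q + 1) (q + 2) (by simp) (by simp)] at h2 }
  haveI hK' : ∀ i, Injective (R₂.cocomplex.X i) := fun i => by
    haveI : Injective ((EtCoh.pull j).obj (R.cocomplex.X i)) := S17614.injective_pull j (R.cocomplex.X i)
    haveI := Injective.injective_of_adjoint (EtCoh.pullPushAdj j) ((EtCoh.pull j).obj (R.cocomplex.X i))
    exact Injective.injective_of_adjoint (EtCoh.pullPushAdj π) ((EtCoh.push j).obj ((EtCoh.pull j).obj (R.cocomplex.X i)))
  haveI : ∀ i, Injective ((((EtCoh.push π).mapHomologicalComplex (ComplexShape.up ℕ)).obj R.cocomplex).X i) :=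
    fun i => Injective.injective_of_adjoint (EtCoh.pullPushAdj π) (R.cocomplex.X i)
  haveI : ∀ i, Injective ((ExactResolution.ofInjective J).cocomplex.X i) := fun i => J.injective i
  -- the section
  obtain ⟨φ, hφ⟩ := (ExactResolution.ofInjective J).exists_desc
    (((EtCoh.push π).mapHomologicalComplex (ComplexShape.up ℕ)).obj R.cocomplex)
    ((EtCoh.pullPushAdj π).unit.app G ≫ (EtCoh.push π).map (R.ι.f 0)) (by
      refine (Category.assoc _ _ _).trans ?_
      rw [Functor.mapHomologicalComplex_obj_d, ← Functor.map_comp, R.ι_f_zero_comp_complex_d, Functor.map_zero,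
        comp_zero])
  let g := ((EtCoh.push π).mapHomologicalComplex (ComplexShape.up ℕ)).map (LocCohLib.res j F R)
  have hcomp : (ExactResolution.ofInjective J).η ≫ (φ ≫ g).f 0 = R₂.η := by
    refine (Category.assoc _ _ _).symm.trans ((congrArg (· ≫ g.f 0) hφ).trans ?_)
    refine (Category.assoc _ _ _).trans ?_
    refine Eq.trans ?_ (Category.assoc _ _ _).symm
    refine congrArg ((EtCoh.pullPushAdj π).unit.app G ≫ ·) ?_
    show (EtCoh.push π).map (R.ι.f 0) ≫ (EtCoh.push π).map (EtDual.unitApp j (R.cocomplex.X 0)) =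
      (EtCoh.push π).map ((EtCoh.pullPushAdj j).unit.app F) ≫
        (EtCoh.push π).map ((EtCoh.push j).map ((EtCoh.pull j).map (R.ι.f 0)))
    refine ((Functor.map_comp _ _ _).symm.trans ?_).trans (Functor.map_comp _ _ _)
    exact congrArg (EtCoh.push π).map ((EtCoh.pullPushAdj j).unit.naturality (R.ι.f 0))
  -- global sections
  let Φ : EtCoh.Ab P ⥤ AddCommGrpCat.{u + 1} := EtCoh.push π ⋙ gs X
  let S := (LocCohLib.sh j F R).map (Φ.mapHomologicalComplex (ComplexShape.up ℕ))
  have hS : S.ShortExact :=
    HomologicalComplex.shortExact_of_degreewise_shortExact _ fun i => by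
      haveI := LocCohLib.isSplitEpi_unitApp j (R.cocomplex.X i)
      exact
        { exact := ShortComplex.exact_of_f_is_kernel _
            (KernelFork.mapIsLimit _ (kernelIsKernel (EtDual.unitApp j (R.cocomplex.X i))) Φ)
          mono_f := inferInstanceAs (Mono (Φ.map (kernel.ι (EtDual.unitApp j (R.cocomplex.X i)))))
          epi_g := inferInstanceAs (Epi (Φ.map (EtDual.unitApp j (R.cocomplex.X i)))) }
  let φ' : ((gs X).mapHomologicalComplex (ComplexShape.up ℕ)).obj J.cocomplex ⟶ S.X₂ :=
    ((gs X).mapHomologicalComplex (ComplexShape.up ℕ)).map φ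
  obtain ⟨d⟩ := nonempty_homology_prod hS φ' (fun m => by
    have := isIso_homologyMap_of_resolutions (ExactResolution.ofInjective J) R₂ (φ ≫ g) hcomp (gs X) m
    rw [Functor.map_comp] at this
    exact this) n
  let τ₂ : Φ ≅ gs P := EtCore.pushGsecIso π
  let τ₁ : EtDual.secSupp j ⋙ Φ ≅ EtDual.gammaSupp j := Functor.isoWhiskerLeft (EtDual.secSupp j) τ₂
  let e₁ : S.X₁.homology n ≅ (EtDual.HY j n).obj F :=
    HomologicalComplex.homologyMapIso ((NatIso.mapHomologicalComplex τ₁ (ComplexShape.up ℕ)).app R.cocomplex) n ≪≫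
      (R.isoRightDerivedObj (EtDual.gammaSupp j) n).symm
  obtain ⟨eP⟩ := ProjCohLib.nonempty_rightDerived_gs_iso P F n
  obtain ⟨eX⟩ := ProjCohLib.nonempty_rightDerived_gs_iso X G n
  let e₂ : S.X₂.homology n ≅ AddCommGrpCat.of (EtCoh.H P F n) :=
    HomologicalComplex.homologyMapIso ((NatIso.mapHomologicalComplex τ₂ (ComplexShape.up ℕ)).app R.cocomplex) n ≪≫
      (R.isoRightDerivedObj (gs P) n).symm ≪≫ eP
  exact ⟨((e₁.symm.addCommGroupIsoToAddEquiv.prodCongr
    (eX.symm ≪≫ J.isoRightDerivedObj (gs X) n).addCommGroupIsoToAddEquiv).trans d).trans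
    e₂.addCommGroupIsoToAddEquiv⟩

end Groth.Agent.ProjDecompLib
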